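import Groth.Agent.ThetaRed.Root
import Groth.Agent.Zarhin.Dual
import Groth.Agent.Zarhin.Symm
import Groth.Agent.AVDeg.Torsion
import Groth.Agent.AVDeg.Polarized
import Groth.Agent.SmLocalST.SmoothField
import Groth.Agent.UFDLib.Regular
import Groth.Agent.ClosedRep.GeomIntegral

/-!
An irreducible theta divisor of a principal polarization is reduced.
-/

set_option autoImplicit false
set_option backward.isDefEq.respectTransparency false
set_option backward.isDefEq.respectTransparency.types false
set_option linter.style.haveILetI false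
set_option linter.unusedSectionVars false
set_option maxHeartbeats 2000000
set_option synthInstance.maxHeartbeats 400000

universe u

open CategoryTheory MonoidalCategory CartesianMonoidalCategory MonObj GrpObj AlgebraicGeometry
open Groth.Agent.W7Cube (pull pull_pull pull_cls pc pc_one)
open Groth.Agent.AbPrim (val pull_val)

noncomputable section

namespace Groth.Agent.ThetaRed

attribute [local instance] W7Cube.law AVDeg.overInst

/-- the generic point is not on the zero scheme of a nonzero section -/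
theorem genericPoint_notMem {X : Scheme.{u}} [IsIntegral X] {L : X.Modules} (hL : PicF.IsInvertible L)
    (s : Coh.structureModule X ⟶ L) (hs : s ≠ 0) : genericPoint X ∉ (PicF2.zeroScheme L s).support := by
  obtain ⟨D, hD, -, -⟩ := S19456.result X L hL s hs
  obtain ⟨U, hU, c, hc, hI, -⟩ := hD (genericPoint X)
  rw [Scheme.IdealSheafData.mem_support_iff_of_mem (U := U) hU, hI, Scheme.zeroLocus_span,
    Scheme.mem_zeroLocus_iff]
  intro h
  refine h c rfl ((X.mem_basicOpen c _ hU).2 ?_)
  have hne : (X.presheaf.germ U.1 _ hU).hom c ≠ 0 :=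
    nonZeroDivisors.ne_zero (Mero.regStalk_le_nonZeroDivisors _ (Mero.germ_mem_regStalk ⟨_, hU⟩ hc))
  exact (Ne.isUnit (G₀ := X.functionField) hne)

/-- an irreducible space with a non-generic point has positive dimension -/
theorem dim_ne_zero {X : Scheme.{u}} [IrreducibleSpace X] {ξ : X} (h : ξ ≠ genericPoint X) :
    topologicalKrullDim X ≠ 0 := by
  intro h0
  let Z₀ : TopologicalSpace.IrreducibleCloseds X :=
    ⟨closure {ξ}, isIrreducible_singleton.closure, isClosed_closure⟩
  let Z₁ : TopologicalSpace.IrreducibleCloseds X :=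
    ⟨Set.univ, IrreducibleSpace.isIrreducible_univ X, isClosed_univ⟩
  have hlt : Z₀ < Z₁ := by
    refine lt_of_le_of_ne (fun x _ => Set.mem_univ x) fun he => h ?_
    have h1 : closure ({ξ} : Set X) = Set.univ := congrArg TopologicalSpace.IrreducibleCloseds.carrier he
    exact ((genericPoint_spec X).eq (show IsGenericPoint ξ Set.univ from h1)).symm
  haveI : Order.KrullDimLE 0 (TopologicalSpace.IrreducibleCloseds X) := ⟨le_of_eq h0⟩
  exact (Order.krullDim_nonpos_iff_forall_isMax.1 (le_of_eq h0) Z₀).not_lt hlt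

variable {k : Type u} [Field k] [IsAlgClosed k] [CharZero k]

set_option maxHeartbeats 4000000 in
theorem isReduced_of_principal (A At : Over (Spec (CommRingCat.of k))) [GrpObj A] [IsProper A.hom] [Smooth A.hom]
    [GeometricallyConnected A.hom] [GrpObj At]
    (φ : AgPol.DualMap A At) (hφ : AbDual.IsDualAV Scheme.fppfPrecoverage A At φ)
    (L : A.left.Modules) (hL : PicF.IsInvertible L) (L' : A.left.Modules)
    (hL' : Nonempty (CohB1.tensorMod L L' ≅ Coh.structureModule A.left))
    (Λ : (PicF.XT A.hom A).Modules)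
    (hΛ : Nonempty (Λ ≅ CohB1.tensorMod (CohB1.tensorMod ((Scheme.Modules.pullback μ[A].left).obj L)
      ((Scheme.Modules.pullback (fst A A).left).obj L')) ((Scheme.Modules.pullback (snd A A).left).obj L')))
    (hiso : IsIso (φ A (PicF.cl Λ)))
    (s : Coh.structureModule A.left ⟶ L) (hs : s ≠ 0)
    [IrreducibleSpace ↥(PicF2.zeroScheme L s).subscheme] :
    IsReduced (PicF2.zeroScheme L s).subscheme := by
  haveI : GeometricallyIntegral A.hom := ClosedRep.GeomIntegral.geometricallyIntegral_of_smooth A.hom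
  haveI : IsIntegral A.left := AVDeg.isIntegral_av A
  haveI : IsCommMonObj A := isCommMonObj_of_isProper_of_geometricallyIntegral A
  haveI : Nonempty A.left := ⟨η[A].left (IsLocalRing.closedPoint k)⟩
  let I := PicF2.zeroScheme L s
  have hufd : ∀ x : A.left, UniqueFactorizationMonoid (A.left.presheaf.stalk x) := fun x => by
    haveI := SmLocalST.isRegularLocalRing_stalk_of_smooth_field A.hom x
    exact UFDLib.ufd_of_isRegularLocalRing _
  let ξ : A.left := I.subschemeι (genericPoint I.subscheme)
  have hξ : ξ ∈ I.support := I.range_subschemeι.le ⟨_, rfl⟩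
  have hgen : ∀ z ∈ I.support, ξ ⤳ z := fun z hz => by
    obtain ⟨z', rfl⟩ := I.range_subschemeι.ge hz
    exact (genericPoint_specializes z').map I.subschemeι.continuous
  obtain ⟨r, M, hM, hr, hcM, hred⟩ := exists_root hufd hL s hξ hgen hs
  by_cases hr1 : r = 1
  · exact hred hr1
  exfalso
  obtain ⟨g, hg⟩ := AVDeg.exists_dim A
  have hg0 : g ≠ 0 := fun h => dim_ne_zero (ξ := ξ)
    (fun he => genericPoint_notMem hL s hs (he ▸ hξ)) (by rw [hg, h]; rfl)
  obtain ⟨hp, hi, hgB, Q, W, hW⟩ := Zarhin.exists_weak A At hg hφ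
  haveI := hp; haveI := hi
  let c := PicGrp.cls L hL
  have hc : pull η[A].left c = 1 := by
    have h : pc c (1 : 𝟙_ (Over (Spec (CommRingCat.of k))) ⟶ A) = 1 := pc_one c
    rwa [Hom.one_def, toUnit_unique (toUnit _) (𝟙 _), Category.id_comp] at h
  have hL'i : PicF.IsInvertible L' := NegTwist.isInvertible_inverse hL hL'.some
  have hinv : PicGrp.cls L' hL'i = c⁻¹ :=
    eq_inv_of_mul_eq_one_right ((PicGrp.cls_mul_cls_eq_one_iff hL hL'i).2 hL')
  let h1 := PicLoc.isInvertible_pullback μ[A].left hL
  let h2 := PicLoc.isInvertible_pullback (fst A A).left hL'i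
  let h3 := PicLoc.isInvertible_pullback (snd A A).left hL'i
  have hcl : PicF.cl Λ = (GraphLocus.lamCls c).1 := by
    have e : GraphLocus.lamCls c = PicGrp.cls (CohB1.tensorMod (CohB1.tensorMod _ _) _)
        (TMul.isInvertible_tensorMod (TMul.isInvertible_tensorMod h1 h2) h3) := by
      rw [AVDeg.cls_tensorMod (TMul.isInvertible_tensorMod h1 h2) h3, AVDeg.cls_tensorMod h1 h2,
        ← pull_cls _ L hL, ← pull_cls _ L' hL'i, ← pull_cls _ L' hL'i, hinv, GraphLocus.lamCls, map_inv, map_inv, _root_.mul_inv_rev,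
        _root_.mul_comm (pull (snd A A).left c)⁻¹, _root_.mul_assoc]
    rw [e]
    exact (PicGrp.cl_eq_cl_iff _ _).2 hΛ
  rw [hcl] at hiso
  haveI : IsIso (GraphLocus.lamHom φ c) := hiso
  obtain ⟨l₀, hl₀, hlv⟩ := Zarhin.exists_lamHom hg hgB W (PicGrp.cls M hM)
  haveI := hl₀
  have hl : GraphLocus.lamHom φ c = ((𝟙 A) ^ r) ≫ l₀ := by
    refine Zarhin.eq_of_pair W fun f t => ?_
    rw [MonObj.pow_comp, Category.id_comp, MonObj.comp_pow, Zarhin.val_pow_right, hlv, hW,
      GraphLocus.val_lamHom hc Q hφ, GraphLocus.val_lamCls]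
    change _ = AVMukai.lam _ f t ^ r
    rw [show c = PicGrp.cls M hM ^ r from hcM]
    simp only [AVMukai.lam, pc, map_pow, ← mul_pow, ← inv_pow]
    apply Additive.ofMul.injective
    simp only [ofMul_mul, ofMul_inv, ofMul_pow]
    abel
  haveI : Mono (((𝟙 A) ^ r) ≫ l₀) := hl ▸ inferInstance
  haveI : Mono ((𝟙 A) ^ r) := mono_of_mono _ l₀
  have htriv : ∀ a : AVDeg.tors (Additive (AVDeg.one' k ⟶ A)) r, a = 0 := fun a => by
    have h : Additive.toMul a.1 ≫ (𝟙 A ^ r) = 1 ≫ (𝟙 A ^ r) := by
      rw [← AVDeg.pow_eq_comp, ← AVDeg.pow_eq_comp, one_pow]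
      exact congrArg Additive.toMul a.2
    exact Subtype.ext (congrArg Additive.ofMul ((cancel_mono _).1 h))
  haveI : Subsingleton (AVDeg.tors (Additive (AVDeg.one' k ⟶ A)) r) := ⟨fun a b => by rw [htriv a, htriv b]⟩
  have hcard := AVDeg.natCard_tors hg (n := r) (Nat.cast_ne_zero.2 hr)
  rw [Nat.card_of_subsingleton (0 : AVDeg.tors (Additive (AVDeg.one' k ⟶ A)) r)] at hcard
  exact hr1 ((Nat.pow_eq_one.1 hcard.symm).resolve_right (by omega))

end Groth.Agent.ThetaRed
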