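import Mathlib

/-!
Elements of factorial domains with one prime factor.
-/

set_option autoImplicit false
set_option linter.style.haveILetI false

universe u

namespace Groth.Agent.ThetaRed

variable {R : Type u} [CommRing R] [IsDomain R] [UniqueFactorizationMonoid R]

/-- if a prime containing `f` lies below every prime factor of `f` it is principal and `f` is a power of its
generator -/
theorem exists_eq_unit_mul_pow {f : R} (hf : f ≠ 0) (Q : Ideal R) [Q.IsPrime] (hfQ : f ∈ Q)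
    (h : ∀ q, Prime q → q ∣ f → Q ≤ Ideal.span {q}) :
    ∃ p, Prime p ∧ Q = Ideal.span {p} ∧ ∃ (v : Rˣ) (n : ℕ), f = v * p ^ n := by
  obtain ⟨p, hpQ, hp, hpf⟩ : ∃ p, p ∈ Q ∧ Prime p ∧ p ∣ f := by
    obtain ⟨w, hw⟩ := UniqueFactorizationMonoid.factors_prod hf
    have hmem : (UniqueFactorizationMonoid.factors f).prod ∈ Q := by
      rw [← hw] at hfQ
      exact (Ideal.IsPrime.mem_or_mem ‹_› hfQ).resolve_right fun hu =>
        (‹Q.IsPrime›).ne_top (Ideal.eq_top_of_isUnit_mem _ hu w.isUnit)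
    obtain ⟨p, hp, hpQ⟩ := (Ideal.IsPrime.multiset_prod_mem_iff_exists_mem ‹_› _).1 hmem
    exact ⟨p, hpQ, UniqueFactorizationMonoid.prime_of_factor p hp, UniqueFactorizationMonoid.dvd_of_mem_factors hp⟩
  have hQ : Q = Ideal.span {p} :=
    le_antisymm (h p hp hpf) ((Ideal.span_singleton_le_iff_mem _).2 hpQ)
  have hall : ∀ q, Prime q → q ∣ f → Associated q p := fun q hq hqf =>
    hq.associated_of_dvd hp (Ideal.mem_span_singleton.1 (h q hq hqf hpQ))
  refine ⟨p, hp, hQ, ?_⟩
  clear h hfQ hpQ hQ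
  have key : ∀ a : R, a ∣ f → a ≠ 0 → ∃ (v : Rˣ) (n : ℕ), a = v * p ^ n := by
    intro a
    refine UniqueFactorizationMonoid.induction_on_prime a (fun _ h0 => absurd rfl h0)
      (fun x hx _ _ => ⟨hx.unit, 0, by simp⟩) (fun b q hb hq ih hd _ => ?_)
    obtain ⟨v, n, hv⟩ := ih ((dvd_mul_left b q).trans hd) hb
    obtain ⟨w, hw⟩ := (hall q hq ((dvd_mul_right q b).trans hd)).symm
    exact ⟨w * v, n + 1, by rw [← hw, hv, pow_succ, Units.val_mul]; ring⟩
  exact key f dvd_rfl hf

theorem associated_of_pow {a b : R} {r : ℕ} (hr : r ≠ 0) (h : Associated (a ^ r) (b ^ r)) : Associated a b :=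
  associated_of_dvd_dvd ((IsIntegrallyClosed.pow_dvd_pow_iff hr).1 h.dvd)
    ((IsIntegrallyClosed.pow_dvd_pow_iff hr).1 h.symm.dvd)

/-- the exponent is determined -/
theorem eq_of_pow {a b : R} (ha : Prime a) (hb : Prime b) {r n : ℕ} (hab : Associated a b)
    (h : Associated (a ^ r) (b ^ n)) : r = n := by
  have h2 : Associated (a ^ r) (a ^ n) := h.trans (hab.pow_pow).symm
  exact le_antisymm ((pow_dvd_pow_iff ha.ne_zero ha.not_isUnit).1 h2.dvd)
    ((pow_dvd_pow_iff ha.ne_zero ha.not_isUnit).1 h2.symm.dvd)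

end Groth.Agent.ThetaRed
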