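import Groth.Agent.ThetaRed.Algebra
import Groth.Agent.S19455
import Groth.Agent.S19456
import Groth.Agent.S5096
import Groth.Agent.NegTwist.Connected
import Groth.Agent.AgSymm.PoincarePow

/-!
An irreducible zero scheme on a locally factorial scheme is a multiple of a reduced one.
-/

set_option autoImplicit false
set_option backward.isDefEq.respectTransparency false
set_option backward.isDefEq.respectTransparency.types false
set_option linter.style.haveILetI false
set_option linter.unusedSectionVars false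
set_option maxHeartbeats 2000000
set_option synthInstance.maxHeartbeats 200000

universe u

open CategoryTheory CategoryTheory.Limits AlgebraicGeometry TopologicalSpace
open Mero
open Groth.Agent.MeroLib (iK iK_inj isUnit_iK_of_mem toK_val mk_eq_mk_iff isUnit_of_regular uval exists_local)

noncomputable section

namespace Groth.Agent.ThetaRed

attribute [local instance] W7Cube.law

variable {X : Scheme.{u}}

/-- the primes of an affine open follow specialisation -/
theorem primeIdealOf_le {U : X.Opens} (hU : IsAffineOpen U) {x y : U} (h : (x : X) ⤳ y) :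
    (hU.primeIdealOf x).asIdeal ≤ (hU.primeIdealOf y).asIdeal := by
  refine (PrimeSpectrum.le_iff_specializes _ _).2 ?_
  refine hU.fromSpec.isOpenEmbedding.isInducing.specializes_iff.1 ?_
  rw [hU.fromSpec_primeIdealOf, hU.fromSpec_primeIdealOf]
  exact h

theorem res_res' {A B C : X.Opens} (i : B ⟶ A) (j : C ⟶ B) (k : C ⟶ A) (a : Γ(X, A)) :
    (X.presheaf.map j.op).hom ((X.presheaf.map i.op).hom a) = (X.presheaf.map k.op).hom a := by
  rw [Subsingleton.elim k (j ≫ i), op_comp, Functor.map_comp]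
  rfl

variable [IsIntegral X] (hufd : ∀ x : X, UniqueFactorizationMonoid (X.presheaf.stalk x))
  {L : X.Modules} (hL : PicF.IsInvertible L) (s : Coh.structureModule X ⟶ L)
  {η : X} (hη : η ∈ (PicF2.zeroScheme L s).support)
  (hgen : ∀ z ∈ (PicF2.zeroScheme L s).support, η ⤳ z)

include hufd hη hgen in
/-- the local shape of the equation -/
theorem exists_prime_pow {U : X.affineOpens} {c : Γ(X, U.1)} (hc : c ≠ 0)
    (hI : (PicF2.zeroScheme L s).ideal U = Ideal.span {c}) {y : X} (hy : y ∈ U.1)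
    (hyZ : y ∈ (PicF2.zeroScheme L s).support) :
    ∃ p : X.presheaf.stalk y, Prime p ∧ (∃ (v : (X.presheaf.stalk y)ˣ) (n : ℕ),
        (X.presheaf.germ U.1 y hy).hom c = v * p ^ n) ∧
      Prime ((X.presheaf.stalkSpecializes (hgen y hyZ)).hom p) := by
  haveI := hufd y
  haveI := hufd η
  have hηU : η ∈ U.1 := (hgen y hyZ).mem_open U.1.2 hy
  let γy := (X.presheaf.germ U.1 y hy).hom
  let γη := (X.presheaf.germ U.1 η hηU).hom
  letI : Algebra Γ(X, U.1) (X.presheaf.stalk y) := γy.toAlgebra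
  letI : Algebra Γ(X, U.1) (X.presheaf.stalk η) := γη.toAlgebra
  haveI : IsLocalization.AtPrime (X.presheaf.stalk y) (U.2.primeIdealOf ⟨y, hy⟩).asIdeal :=
    U.2.isLocalization_stalk ⟨y, hy⟩
  haveI : IsLocalization.AtPrime (X.presheaf.stalk η) (U.2.primeIdealOf ⟨η, hηU⟩).asIdeal :=
    U.2.isLocalization_stalk ⟨η, hηU⟩
  let P := (U.2.primeIdealOf ⟨η, hηU⟩).asIdeal
  have hmemP : ∀ {z : X} (hz : z ∈ U.1), z ∈ (PicF2.zeroScheme L s).support ↔
      c ∈ (U.2.primeIdealOf ⟨z, hz⟩).asIdeal := fun {z} hz => by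
    rw [Scheme.IdealSheafData.mem_support_iff_of_mem (U := U) hz, hI, Scheme.zeroLocus_span]
    have h1 := U.2.fromSpec_image_zeroLocus ({c} : Set Γ(X, U.1))
    constructor
    · intro h
      obtain ⟨q, hq, hqz⟩ := h1.ge ⟨h, hz⟩
      have : U.2.primeIdealOf ⟨z, hz⟩ = q :=
        U.2.fromSpec.isOpenEmbedding.injective ((U.2.fromSpec_primeIdealOf ⟨z, hz⟩).trans hqz.symm)
      rw [this]
      exact hq (Set.mem_singleton c)
    · intro h
      exact (h1.le ⟨_, Set.singleton_subset_iff.2 h, U.2.fromSpec_primeIdealOf ⟨z, hz⟩⟩).1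
  have hcP : c ∈ P := (hmemP hηU).1 hη
  have hdisj : Disjoint ((U.2.primeIdealOf ⟨y, hy⟩).asIdeal.primeCompl : Set Γ(X, U.1)) (P : Set Γ(X, U.1)) :=
    Set.disjoint_left.2 fun a ha haP =>
      ha (primeIdealOf_le U.2 (x := ⟨η, hηU⟩) (y := ⟨y, hy⟩) (hgen y hyZ) haP)
  haveI : (P.map γy).IsPrime := IsLocalization.isPrime_of_isPrime_disjoint (U.2.primeIdealOf ⟨y, hy⟩).asIdeal.primeCompl
    (X.presheaf.stalk y) P inferInstance hdisj
  have hinj : Function.Injective γy := germ_injective_of_isIntegral X y hy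
  have hcy : γy c ≠ 0 := fun h => hc (hinj (h.trans (map_zero _).symm))
  obtain ⟨p, hp, hQ, v, n, hv⟩ := exists_eq_unit_mul_pow hcy (P.map γy) (Ideal.mem_map_of_mem _ hcP) fun q hq hqf => by
    haveI : (Ideal.span {q}).IsPrime := (Ideal.span_singleton_prime hq.ne_zero).2 hq
    let J : Ideal Γ(X, U.1) := (Ideal.span {q}).comap γy
    haveI : J.IsPrime := Ideal.comap_isPrime γy _
    let z : X := U.2.fromSpec ⟨J, inferInstance⟩
    have hzU : z ∈ U.1 := U.2.range_fromSpec.le ⟨_, rfl⟩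
    have hz : U.2.primeIdealOf ⟨z, hzU⟩ = ⟨J, inferInstance⟩ :=
      U.2.fromSpec.isOpenEmbedding.injective (U.2.fromSpec_primeIdealOf ⟨z, hzU⟩)
    have hzZ : z ∈ (PicF2.zeroScheme L s).support := by
      rw [hmemP hzU, hz]
      exact Ideal.mem_span_singleton.2 hqf
    have hle := primeIdealOf_le U.2 (x := ⟨η, hηU⟩) (y := ⟨z, hzU⟩) (hgen z hzZ)
    rw [hz] at hle
    exact Ideal.map_le_iff_le_comap.2 hle
  refine ⟨p, hp, ⟨v, n, hv⟩, ?_⟩
  let σ := (X.presheaf.stalkSpecializes (hgen y hyZ)).hom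
  have hσ : σ.comp γy = γη := by
    rw [← CommRingCat.hom_comp, TopCat.Presheaf.germ_stalkSpecializes]
  have hmax : IsLocalRing.maximalIdeal (X.presheaf.stalk η) = Ideal.span {σ p} := by
    rw [← IsLocalization.AtPrime.map_eq_maximalIdeal P (X.presheaf.stalk η)]
    change P.map γη = _
    rw [← hσ, ← Ideal.map_map, hQ, Ideal.map_span, Set.image_singleton]
  have hne : σ p ≠ 0 := by
    intro h0
    have hmem : γη c ∈ IsLocalRing.maximalIdeal (X.presheaf.stalk η) := by
      rw [← IsLocalization.AtPrime.map_eq_maximalIdeal P (X.presheaf.stalk η)]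
      exact Ideal.mem_map_of_mem _ hcP
    rw [hmax, h0, Ideal.mem_span_singleton, zero_dvd_iff] at hmem
    exact hc (germ_injective_of_isIntegral X η hηU (hmem.trans (map_zero _).symm))
  exact (Ideal.span_singleton_prime hne).1 (hmax ▸ (IsLocalRing.maximalIdeal.isMaximal _).isPrime)

include hufd hη hgen in
/-- all generators of the maximal ideal at the generic point are associated -/
theorem assoc_at_generic {p q : X.presheaf.stalk η} (hp : Prime p) (hq : Prime q) {f : X.presheaf.stalk η}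
    {v w : (X.presheaf.stalk η)ˣ} {m n : ℕ} (hfp : f = v * p ^ m) (hfq : f = w * q ^ n) (hn : ¬ IsUnit f) :
    m = n := by
  haveI := hufd η
  have h : Associated (p ^ m) (q ^ n) := by
    have h1 : Associated f (p ^ m) := hfp ▸ (associated_unit_mul_left _ _ v.isUnit)
    have h2 : Associated f (q ^ n) := hfq ▸ (associated_unit_mul_left _ _ w.isUnit)
    exact h1.symm.trans h2
  have hm0 : m ≠ 0 := fun h0 => hn (by rw [hfp, h0, pow_zero, _root_.mul_one]; exact v.isUnit)
  exact eq_of_pow hp hq (hp.associated_of_dvd hq (hp.dvd_of_dvd_pow ((dvd_pow_self p hm0).trans h.dvd))) h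

include hufd hL hη hgen in
set_option maxHeartbeats 4000000 in
/-- **the root of an irreducible zero scheme** -/
theorem exists_root (hs : s ≠ 0) :
    ∃ (r : ℕ) (M : X.Modules) (hM : PicF.IsInvertible M), r ≠ 0 ∧ PicGrp.cls L hL = PicGrp.cls M hM ^ r ∧
      (r = 1 → IsReduced (PicF2.zeroScheme L s).subscheme) := by
  obtain ⟨D, hD, e, -⟩ := S19456.result X L hL s hs
  let I := PicF2.zeroScheme L s
  have hc0 : ∀ {U : X.affineOpens} {c : Γ(X, U.1)}, c ∈ regSub X U.1 → Nonempty U.1 → c ≠ 0 := fun {U c} hc hne h0 => by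
    obtain ⟨⟨y, hy⟩⟩ := hne
    have := regStalk_le_nonZeroDivisors y (germ_mem_regStalk ⟨y, hy⟩ hc)
    rw [h0, map_zero] at this
    exact nonZeroDivisors.ne_zero this rfl
  have hsupp : ∀ {U : X.affineOpens} {c : Γ(X, U.1)}, I.ideal U = Ideal.span {c} → ∀ {y : X} (hy : y ∈ U.1),
      y ∈ I.support ↔ ¬ IsUnit ((X.presheaf.germ U.1 y hy).hom c) := fun {U c} hI y hy => by
    rw [Scheme.IdealSheafData.mem_support_iff_of_mem (U := U) hy, hI, Scheme.zeroLocus_span,
      Scheme.mem_zeroLocus_iff, ← X.mem_basicOpen c y hy]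
    exact ⟨fun h => h c rfl, fun h f hf => Set.mem_singleton_iff.mp hf ▸ h⟩
  -- the exponent
  obtain ⟨Uη, hηU, cη, hcη, hIη, -⟩ := hD η
  obtain ⟨pη, hpη, ⟨vη, r, hrη⟩, hpη'⟩ := exists_prime_pow hufd s hη hgen (hc0 hcη ⟨⟨η, hηU⟩⟩) hIη hηU hη
  have hr : r ≠ 0 := fun h0 => (hsupp hIη hηU).1 hη (by rw [hrη, h0, pow_zero, _root_.mul_one]; exact vη.isUnit)
  have hfix : ∀ {U : X.affineOpens} {c : Γ(X, U.1)}, c ≠ 0 → I.ideal U = Ideal.span {c} → ∀ {x : X} (hxU : x ∈ U.1),
      x ∈ I.support → ∃ (p : X.presheaf.stalk x) (_ : Prime p) (v : (X.presheaf.stalk x)ˣ),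
        (X.presheaf.germ U.1 x hxU).hom c = v * p ^ r := fun {U c} hcne hI {x} hxU hxZ => by
        obtain ⟨p, hp, ⟨v, n, hv⟩, hp'⟩ := exists_prime_pow hufd s hη hgen hcne hI hxU hxZ
        refine ⟨p, hp, v, ?_⟩
        -- compare at the generic point of the zero scheme
        have hηU' : η ∈ U.1 := (hgen x hxZ).mem_open U.1.2 hxU
        let σ := (X.presheaf.stalkSpecializes (hgen x hxZ)).hom
        have hσ : σ ((X.presheaf.germ U.1 x hxU).hom c) = (X.presheaf.germ U.1 η hηU').hom c := by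
          rw [← TopCat.Presheaf.germ_stalkSpecializes X.presheaf hxU (hgen x hxZ)]
          rfl
        obtain ⟨Uc, hUc, hle₁, hle₂⟩ : ∃ Uc : X.affineOpens, η ∈ Uc.1 ∧ Uc.1 ≤ U.1 ∧ Uc.1 ≤ Uη.1 := by
          obtain ⟨O, hO, hηO, hOle⟩ := TopologicalSpace.Opens.isBasis_iff_nbhd.mp X.isBasis_affineOpens
            (show η ∈ U.1 ⊓ Uη.1 from ⟨hηU', hηU⟩)
          exact ⟨⟨O, hO⟩, hηO, hOle.trans inf_le_left, hOle.trans inf_le_right⟩
        have hspan : Ideal.span {(X.presheaf.map (homOfLE hle₁).op).hom c} =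
            Ideal.span {(X.presheaf.map (homOfLE hle₂).op).hom cη} := by
          rw [← Set.image_singleton, ← Ideal.map_span, ← hI, ← Set.image_singleton, ← Ideal.map_span, ← hIη]
          exact (I.map_ideal (U := Uc) (V := U) hle₁).trans (I.map_ideal (U := Uc) (V := Uη) hle₂).symm
        haveI : Nonempty Uc.1 := ⟨⟨η, hUc⟩⟩
        have hassoc : Associated ((X.presheaf.germ U.1 η hηU').hom c) ((X.presheaf.germ Uη.1 η hηU).hom cη) := by
          have h := (Ideal.span_singleton_eq_span_singleton.1 hspan).map (X.presheaf.germ Uc.1 η hUc).hom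
          rw [← TopCat.Presheaf.germ_res X.presheaf (homOfLE hle₁) η hUc,
            ← TopCat.Presheaf.germ_res X.presheaf (homOfLE hle₂) η hUc]
          exact h
        obtain ⟨w, hw⟩ := hassoc
        have hp'' : Prime ((X.presheaf.stalkSpecializes (hgen η hη)).hom pη) := hpη'
        rw [TopCat.Presheaf.stalkSpecializes_refl] at hp''
        have e1 : (X.presheaf.germ Uη.1 η hηU).hom cη =
            ((Units.map σ.toMonoidHom v * w : (X.presheaf.stalk η)ˣ) : X.presheaf.stalk η) * σ p ^ n := by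
          rw [← hw, ← hσ, hv, map_mul, map_pow, Units.val_mul]
          exact (mul_right_comm _ _ _)
        have hn : n = r := assoc_at_generic hufd s hη hgen hp' hp'' e1 hrη ((hsupp hIη hηU).1 hη)
        rw [← hn]
        exact hv
  have hloc : ∀ x : X, ∃ (W : X.affineOpens) (_ : x ∈ W.1) (P c : Γ(X, W.1)) (hP : P ∈ regSub X W.1),
      I.ideal W = Ideal.span {c} ∧ (∃ v : Γ(X, W.1), IsUnit v ∧ c = v * P ^ r) ∧
      (∀ y : W.1, D.1 y.1 = QuotientGroup.mk (IsLocalization.map_units (KStalk X y.1)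
          (regGerm y ⟨P, hP⟩)).unit ^ r) := fun x => by
    obtain ⟨U, hxU, c, hc, hI, hgerm⟩ := hD x
    have hcne : c ≠ 0 := hc0 hc ⟨⟨x, hxU⟩⟩
    obtain ⟨p, v, hv⟩ : ∃ (p : X.presheaf.stalk x) (v : (X.presheaf.stalk x)ˣ),
        (X.presheaf.germ U.1 x hxU).hom c = v * p ^ r := by
      by_cases hxZ : x ∈ I.support
      · obtain ⟨p, -, v, hv⟩ := hfix hcne hI hxU hxZ
        exact ⟨p, v, hv⟩
      · exact ⟨1, (not_not.1 (mt (hsupp hI hxU).2 hxZ)).unit, by rw [one_pow, _root_.mul_one, IsUnit.unit_spec]⟩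
    obtain ⟨O, hxO, P₀, hP₀⟩ := X.presheaf.germ_exist p
    obtain ⟨O', hxO', v₀, hv₀⟩ := X.presheaf.germ_exist (v : X.presheaf.stalk x)
    let O'' : X.Opens := U.1 ⊓ O ⊓ O'
    have hx'' : x ∈ O'' := ⟨⟨hxU, hxO⟩, hxO'⟩
    obtain ⟨O₁, hxO₁, i₁, i₂, heq⟩ := X.presheaf.germ_eq x hx'' hx''
      ((X.presheaf.map (homOfLE (inf_le_left.trans inf_le_left : O'' ≤ U.1)).op).hom c)
      ((X.presheaf.map (homOfLE (inf_le_right : O'' ≤ O')).op).hom v₀ *
        (X.presheaf.map (homOfLE (inf_le_left.trans inf_le_right : O'' ≤ O)).op).hom P₀ ^ r) (by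
        rw [map_mul, map_pow, TopCat.Presheaf.germ_res_apply, TopCat.Presheaf.germ_res_apply,
          TopCat.Presheaf.germ_res_apply, hP₀, hv₀]
        exact hv)
    let B := X.basicOpen v₀
    have hxB : x ∈ B := by
      rw [X.mem_basicOpen v₀ x hxO', show (X.presheaf.germ O' x hxO').hom v₀ = _ from hv₀]
      exact v.isUnit
    obtain ⟨O₂, hO₂, hxO₂, hO₂le⟩ := TopologicalSpace.Opens.isBasis_iff_nbhd.mp X.isBasis_affineOpens
      (show x ∈ O₁ ⊓ B ⊓ O'' from ⟨⟨hxO₁, hxB⟩, hx''⟩)
    let W : X.affineOpens := ⟨O₂, hO₂⟩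
    have hW₁ : O₂ ≤ O₁ := hO₂le.trans (inf_le_left.trans inf_le_left)
    have hWB : O₂ ≤ B := hO₂le.trans (inf_le_left.trans inf_le_right)
    have hW'' : O₂ ≤ O'' := hO₂le.trans inf_le_right
    have hWU : O₂ ≤ U.1 := hW''.trans (inf_le_left.trans inf_le_left)
    let P := (X.presheaf.map (homOfLE (hW''.trans (inf_le_left.trans inf_le_right) : O₂ ≤ O)).op).hom P₀
    let c' := (X.presheaf.map (homOfLE hWU).op).hom c
    let v' := (X.presheaf.map (homOfLE (hW''.trans inf_le_right : O₂ ≤ O')).op).hom v₀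
    have hcv : c' = v' * P ^ r := by
      have h := congrArg (X.presheaf.map (homOfLE hW₁).op).hom heq
      simp only [map_mul, map_pow] at h
      refine Eq.trans ?_ (h.trans ?_)
      · exact ((congrArg _ (res_res' _ i₁ (i₁ ≫ homOfLE (inf_le_left.trans inf_le_left)) c)).trans
          (res_res' _ _ (homOfLE hWU) c)).symm
      · congr 1
        · exact (congrArg _ (res_res' _ i₂ (i₂ ≫ homOfLE inf_le_right) v₀)).trans
            (res_res' _ _ (homOfLE (hW''.trans inf_le_right)) v₀)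
        · exact congrArg (· ^ r) ((congrArg _ (res_res' _ i₂ (i₂ ≫ homOfLE (inf_le_left.trans inf_le_right)) P₀)).trans
            (res_res' _ _ (homOfLE (hW''.trans (inf_le_left.trans inf_le_right))) P₀))
    have hv' : IsUnit v' := by
      have h := (AlgebraicGeometry.RingedSpace.isUnit_res_basicOpen X.toRingedSpace v₀).map
        (X.presheaf.map (homOfLE hWB).op).hom
      rw [show v' = _ from rfl]
      refine (Eq.subst (motive := IsUnit) ?_ h)
      exact res_res' _ (homOfLE hWB) _ v₀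
    have hP : P ∈ regSub X O₂ := fun y => by
      refine mem_nonZeroDivisors_of_ne_zero fun h0 => ?_
      have h1 := regStalk_le_nonZeroDivisors y.1 (germ_mem_regStalk (⟨y.1, hWU y.2⟩ : U.1) hc)
      refine nonZeroDivisors.ne_zero h1 ?_
      rw [← TopCat.Presheaf.germ_res_apply X.presheaf (homOfLE hWU) y.1 y.2 c]
      change (X.presheaf.germ O₂ y.1 y.2).hom c' = 0
      rw [hcv, map_mul, map_pow]
      exact mul_eq_zero_of_right _ ((congrArg (· ^ r) h0).trans (zero_pow hr))
    refine ⟨W, hxO₂, P, c', hP, ?_, ⟨v', hv', hcv⟩, fun y => ?_⟩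
    · rw [← I.map_ideal (U := W) (V := U) hWU, hI, Ideal.map_span, Set.image_singleton]
      rfl
    · rw [hgerm ⟨y.1, hWU y.2⟩, ← QuotientGroup.mk_pow, eq_comm, mk_eq_mk_iff]
      refine ⟨(X.presheaf.germ O₂ y.1 y.2).hom v', hv'.map _, ?_⟩
      rw [IsUnit.unit_spec, Units.val_pow_eq_pow_val, IsUnit.unit_spec]
      change iK y.1 ((X.presheaf.germ U.1 y.1 (hWU y.2)).hom c) =
        iK y.1 ((X.presheaf.germ O₂ y.1 y.2).hom P) ^ r * iK y.1 _
      rw [← TopCat.Presheaf.germ_res_apply X.presheaf (homOfLE hWU) y.1 y.2 c, ← map_pow, ← map_mul]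
      congr 1
      change (X.presheaf.germ O₂ y.1 y.2).hom c' = _
      rw [hcv, map_mul, map_pow, _root_.mul_comm]
  choose W hxW P cc hP hIW hcv hgermW using hloc
  let g : ∀ (x : X) (y : (W x).1), (KStalk X y.1)ˣ := fun x y =>
    (IsLocalization.map_units (KStalk X y.1) (regGerm y ⟨P x, hP x⟩)).unit
  have hroot : ∀ {y : X} (a b : Germ X y) (fa fb : X.presheaf.stalk y) (ha : fa ∈ regStalk X y)
      (hb : fb ∈ regStalk X y), a = QuotientGroup.mk (isUnit_iK_of_mem ha).unit →
      b = QuotientGroup.mk (isUnit_iK_of_mem hb).unit → a ^ r = b ^ r → a = b := by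
    intro y a b fa fb ha hb hea heb hab
    haveI := hufd y
    rw [hea, heb, ← QuotientGroup.mk_pow, ← QuotientGroup.mk_pow, mk_eq_mk_iff] at hab
    obtain ⟨d, hd, hd'⟩ := hab
    rw [Units.val_pow_eq_pow_val, Units.val_pow_eq_pow_val, IsUnit.unit_spec, IsUnit.unit_spec, ← map_pow, ← map_pow,
      ← map_mul] at hd'
    obtain ⟨w, hw⟩ := associated_of_pow hr (show Associated (fa ^ r) (fb ^ r) from
      ⟨hd.unit, ((iK_inj y hd').trans (by rw [IsUnit.unit_spec])).symm⟩)
    rw [hea, heb, mk_eq_mk_iff]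
    refine ⟨(w : X.presheaf.stalk y), w.isUnit, ?_⟩
    rw [IsUnit.unit_spec, IsUnit.unit_spec, ← map_mul, hw]
  let D₀ : Divisor X := ⟨fun y => QuotientGroup.mk (g y ⟨y, hxW y⟩), fun x => by
    obtain ⟨f, hf⟩ : IsUnit (toK X (W x).1 (P x)) :=
      isUnit_of_regular _ fun y => ⟨(W x).1, le_rfl, P x, 1, y.2, hP x, one_mem _, fun z => by
        rw [map_one, map_one, _root_.mul_one]
        rfl⟩
    refine ⟨(W x).1, hxW x, f, fun y => ?_⟩
    have he : germOf f y = QuotientGroup.mk (g x y) := by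
      refine congrArg _ (Units.ext ?_)
      change (f : Γ(kmod X, (W x).1)).1 y = _
      rw [hf, IsUnit.unit_spec]
      rfl
    rw [he]
    refine hroot _ _ _ _ (germ_mem_regStalk ⟨y.1, hxW y.1⟩ (hP y.1)) (germ_mem_regStalk y (hP x)) rfl rfl ?_
    exact (hgermW y.1 ⟨y.1, hxW y.1⟩).symm.trans (hgermW x y)⟩
  have hD₀ : D = D₀ ^ r := Subtype.ext (funext fun y => by
    rw [SubmonoidClass.coe_pow, Pi.pow_apply]
    exact hgermW y ⟨y, hxW y⟩)
  have hmul : ∀ E F : Divisor X, PicGrp.cls _ (S5096.result X (E * F)) =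
      PicGrp.cls _ (S5096.result X E) * PicGrp.cls _ (S5096.result X F) := fun E F => by
    obtain ⟨μ, -, hμ⟩ := S19455.result X E F
    refine Subtype.ext ?_
    rw [PicGrp.cls_mul_cls_val]
    exact (PicGrp.cl_eq_cl_iff _ _).2 ⟨(asIso μ).symm⟩
  let ψ : Divisor X →* PicLoc.PicSet X := MonoidHom.mk' (fun E => PicGrp.cls _ (S5096.result X E)) hmul
  refine ⟨r, divMod D₀, S5096.result X D₀, hr, ?_, fun hr1 => ?_⟩
  · have h : PicGrp.cls L hL = ψ D := (PicGrp.cls_eq_cls_iff hL (S5096.result X D)).2 ⟨e⟩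
    rw [h, hD₀, map_pow]
    rfl
  · -- reducedness
    have hred : ∀ x : X, (Ideal.span {cc x} : Ideal Γ(X, (W x).1)).IsRadical := fun x a ha => by
      obtain ⟨k, hk⟩ := ha
      refine Ideal.mem_of_localization_maximal fun J hJ => ?_
      let y : X := (W x).2.fromSpec ⟨J, inferInstance⟩
      have hyW : y ∈ (W x).1 := (W x).2.range_fromSpec.le ⟨_, rfl⟩
      have hyJ : (W x).2.primeIdealOf ⟨y, hyW⟩ = ⟨J, inferInstance⟩ :=
        (W x).2.fromSpec.isOpenEmbedding.injective ((W x).2.fromSpec_primeIdealOf ⟨y, hyW⟩)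
      letI : Algebra Γ(X, (W x).1) (X.presheaf.stalk y) := (X.presheaf.germ (W x).1 y hyW).hom.toAlgebra
      haveI : IsLocalization.AtPrime (X.presheaf.stalk y) J := by
        have h := (W x).2.isLocalization_stalk ⟨y, hyW⟩
        rw [hyJ] at h
        exact h
      suffices h : algebraMap Γ(X, (W x).1) (X.presheaf.stalk y) a ∈
          (Ideal.span {cc x}).map (algebraMap Γ(X, (W x).1) (X.presheaf.stalk y)) by
        rw [IsLocalization.algebraMap_mem_map_algebraMap_iff J.primeCompl] at h ⊢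
        exact h
      rw [Ideal.map_span, Set.image_singleton, Ideal.mem_span_singleton]
      by_cases hyZ : y ∈ I.support
      · haveI := hufd y
        have hne : cc x ≠ 0 := fun h0 => by
          obtain ⟨v, hv, hcvx⟩ := hcv x
          rw [h0, hr1, pow_one] at hcvx
          exact hc0 (hP x) ⟨⟨y, hyW⟩⟩ (hv.mul_right_eq_zero.1 hcvx.symm)
        obtain ⟨p, hp, v, hv⟩ := hfix hne (hIW x) hyW hyZ
        rw [hr1, pow_one] at hv
        change (X.presheaf.germ (W x).1 y hyW).hom (cc x) ∣ (X.presheaf.germ (W x).1 y hyW).hom a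
        rw [hv, Units.mul_left_dvd]
        refine hp.dvd_of_dvd_pow (n := k) ?_
        have hd := map_dvd (X.presheaf.germ (W x).1 y hyW).hom (Ideal.mem_span_singleton.1 hk)
        rw [hv, Units.mul_left_dvd, map_pow] at hd
        exact hd
      · exact (not_not.1 (mt (hsupp (hIW x) hyW).2 hyZ)).dvd
    haveI : ∀ z : I.subscheme, _root_.IsReduced (I.subscheme.presheaf.stalk z) := fun z => by
      let x := I.subschemeι z
      let R := CommRingCat.of (Γ(X, (W x).1) ⧸ I.ideal (W x))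
      let f : Spec R ⟶ I.subscheme := I.subschemeCover.f (W x)
      haveI : IsOpenImmersion f := inferInstanceAs (IsOpenImmersion (I.subschemeCover.f (W x)))
      haveI : _root_.IsReduced R := by
        change _root_.IsReduced (Γ(X, (W x).1) ⧸ I.ideal (W x))
        rw [hIW x]
        exact (Ideal.isRadical_iff_quotient_reduced _).1 (hred x)
      haveI : AlgebraicGeometry.IsReduced (Spec R) := inferInstance
      have hz : z ∈ f.opensRange := by
        rw [show f.opensRange = _ from I.opensRange_subschemeCover_map (W x)]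
        exact hxW x
      obtain ⟨z', hz'⟩ := hz
      rw [← hz']
      exact isReduced_of_injective (asIso (f.stalkMap z')).commRingCatIsoToRingEquiv.toRingHom
        (asIso (f.stalkMap z')).commRingCatIsoToRingEquiv.injective
    exact isReduced_of_isReduced_stalk _

end Groth.Agent.ThetaRed
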